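import Cfsg.Agent.H138.HT.TT

/-!
# S3540, section 4: two commuting quasisimple groups on a tensor product of two planes: a lower bound for the orbits

* `RA T` : the representation of `A` on `W`;
* `fpf` : an element of `A` fixing a non-zero vector of `W` is trivial;
* `tt_low'` : `|A| |B| ≤ m (|K| - 1)` for the orbit length `m`.
-/

set_option autoImplicit false
set_option linter.unusedSectionVars false

universe u

namespace Cfsg.Agent.H926.HT

open Cfsg.Agent.H828.HT Cfsg.Agent.H138.HT Cfsg.Agent.Omega.NO1.Comp Module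
open scoped TensorProduct

variable {p : ℕ} [hp : Fact p.Prime] {K : Type u} [Field K] {V : Type u} [AddCommGroup V] [Module (ZMod p) V]
    [Module K V] {W W' : Type u} [AddCommGroup W] [Module K W] [AddCommGroup W'] [Module K W']
    {G A B : Subgroup (V ≃ₗ[ZMod p] V)} {h : ℕ}

/-- the `K`-linear map of an element of `A` -/
def la (T : TT p K V W W' G A B h) (a : A) : Module.End K V where
  toFun v := (a : V ≃ₗ[ZMod p] V) v
  map_add' v w := map_add _ v w
  map_smul' c v := T.linA a a.2 c v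

theorem la_mem (T : TT p K V W W' G A B h) (a : A) : la T a ∈ linSet K V (A : Set (V ≃ₗ[ZMod p] V)) :=
  ⟨a, a.2, fun _ => rfl⟩

theorem la_phi (T : TT p K V W W' G A B h) (a : A) (w : W) (w' : W') :
    (a : V ≃ₗ[ZMod p] V) (T.D.φ (w ⊗ₜ w')) = T.D.φ (T.D.ρ (la T a) w ⊗ₜ w') :=
  T.D.hl _ (la_mem T a) w w'

/-- the representation of `A` on `W` -/
noncomputable def RA (T : TT p K V W W' G A B h) : A →* Module.End K W where
  toFun a := T.D.ρ (la T a)
  map_one' := by
    obtain ⟨w', hw'⟩ := exists_ne' T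
    ext w
    apply T.D.inj_left hw'
    rw [← la_phi]
    rfl
  map_mul' a b := by
    obtain ⟨w', hw'⟩ := exists_ne' T
    ext w
    apply T.D.inj_left hw'
    rw [← la_phi]
    change (a : V ≃ₗ[ZMod p] V) ((b : V ≃ₗ[ZMod p] V) (T.D.φ (w ⊗ₜ w'))) = _
    rw [la_phi, la_phi]
    rfl
where
  exists_ne' (T : TT p K V W W' G A B h) : ∃ w' : W', w' ≠ 0 := by
    have := T.D.neR
    exact exists_ne 0

theorem RA_phi (T : TT p K V W W' G A B h) (a : A) (w : W) (w' : W') :
    (a : V ≃ₗ[ZMod p] V) (T.D.φ (w ⊗ₜ w')) = T.D.φ (RA T a w ⊗ₜ w') := la_phi T a w w'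

theorem RB_phi (T : TT p K V W W' G A B h) (b : B) (w : W) (w' : W') :
    (b : V ≃ₗ[ZMod p] V) (T.D.φ (w ⊗ₜ w')) = T.D.φ (w ⊗ₜ RA T.symm b w') := by
  have h1 := RA_phi T.symm b w' w
  have h2 : T.symm.D = T.D.symm := rfl
  rw [h2, Dec.symm_φ, Dec.symm_φ] at h1
  exact h1

theorem RA_inj (T : TT p K V W W' G A B h) {a : A} (ha : RA T a = 1) : a = 1 := by
  have h1 : la T a = LinearMap.id := by
    apply T.D.ext
    intro w w'
    change (a : V ≃ₗ[ZMod p] V) (T.D.φ (w ⊗ₜ w')) = T.D.φ (w ⊗ₜ w')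
    rw [RA_phi, ha]
    rfl
  apply Subtype.ext
  apply LinearEquiv.ext
  intro v
  exact LinearMap.congr_fun h1 v

theorem det_one (T : TT p K V W W' G A B h) (a : A) : LinearMap.det (RA T a) = 1 := by
  let δ : A →* Kˣ := ((LinearMap.det : Module.End K W →* K).comp (RA T)).toHomUnits
  have h1 : δ.ker = ⊤ := by
    have h2 : commutator A = ⊤ := T.qsA.1.commutator_eq_top
    rw [eq_top_iff, ← h2]
    exact Abelianization.commutator_subset_ker δ
  have h3 : δ a = 1 := by rw [← MonoidHom.mem_ker, h1]; trivial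
  have h4 := congrArg (fun u : Kˣ => (u : K)) h3
  exact h4

theorem charP_of (T : TT p K V W W' G A B h) : (p : K) = 0 := by
  have := T.D.neL
  have := T.D.neR
  obtain ⟨w, hw⟩ := exists_ne (0 : W)
  obtain ⟨w', hw'⟩ := exists_ne (0 : W')
  have hv := T.D.ne_zero hw hw'
  have h2 : (p : ℕ) • T.D.φ (w ⊗ₜ w') = 0 := by
    rw [← Nat.cast_smul_eq_nsmul (ZMod p), ZMod.natCast_self, zero_smul]
  rw [← Nat.cast_smul_eq_nsmul K] at h2
  exact (smul_eq_zero.1 h2).resolve_right hv

/-- a linear map of determinant one of a plane with a fixed vector -/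
theorem unip {f : Module.End K W} (h2 : finrank K W = 2) (hdet : LinearMap.det f = 1) {w : W} (hw : w ≠ 0)
    (hf : f w = w) (hp : (p : K) = 0) : f ^ p = 1 := by
  have hfd : FiniteDimensional K W := Module.finite_of_finrank_pos (by omega)
  obtain ⟨u, hu⟩ : ∃ u, LinearIndependent K ![w, u] := by
    by_contra hcon
    push Not at hcon
    have h3 : finrank K W ≤ 1 := by
      refine finrank_le_one w fun v => ?_
      have h4 := hcon v
      rw [LinearIndependent.pair_iff] at h4
      push Not at h4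
      obtain ⟨s, t, hst, hne⟩ := h4
      have ht : t ≠ 0 := by
        rintro rfl
        rw [zero_smul, add_zero] at hst
        rcases smul_eq_zero.1 hst with h5 | h5
        · exact hne h5 rfl
        · exact hw h5
      refine ⟨-(t⁻¹ * s), ?_⟩
      have h5 : v = t⁻¹ • (t • v) := by rw [smul_smul, inv_mul_cancel₀ ht, one_smul]
      rw [h5, eq_neg_of_add_eq_zero_right hst, smul_neg, neg_smul, smul_smul]
    omega
  let b := basisOfLinearIndependentOfCardEqFinrank hu (by rw [h2]; rfl)
  have hb0 : b 0 = w := by simp [b]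
  have hb1 : b 1 = u := by simp [b]
  have h3 : LinearMap.det f = (LinearMap.toMatrix b b f).det := (LinearMap.det_toMatrix b f).symm
  rw [Matrix.det_fin_two, LinearMap.toMatrix_apply, LinearMap.toMatrix_apply, LinearMap.toMatrix_apply,
    LinearMap.toMatrix_apply, hb0, hf, ← hb0, b.repr_self] at h3
  simp only [Finsupp.single_eq_same, one_mul] at h3
  rw [Finsupp.single_eq_of_ne (by decide), mul_zero, sub_zero, hdet] at h3
  have h4 : f u = u + (b.repr (f (b 1)) 0) • w := by
    have h5 := b.sum_repr (f (b 1))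
    rw [Fin.sum_univ_two, hb0, ← h3, one_smul, hb1] at h5
    rw [← h5, hb1, add_comm]
  set α := b.repr (f (b 1)) 0
  have h5 : ∀ n : ℕ, (f ^ n) w = w := by
    intro n
    induction n with
    | zero => rfl
    | succ n ih => rw [pow_succ]; change (f ^ n) (f w) = w; rw [hf, ih]
  have h6 : ∀ n : ℕ, (f ^ n) u = u + ((n : K) * α) • w := by
    intro n
    induction n with
    | zero => simp
    | succ n ih =>
      rw [pow_succ]
      change (f ^ n) (f u) = _
      rw [h4, map_add, map_smul, ih, h5, add_assoc, ← add_smul]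
      congr 2
      push_cast
      ring
  refine b.ext fun i => ?_
  fin_cases i
  · change (f ^ p) (b 0) = b 0
    rw [hb0, h5]
  · change (f ^ p) (b 1) = b 1
    rw [hb1, h6, hp, zero_mul, zero_smul, add_zero]

/-- an element of `A` with a non-zero fixed vector in `W` is trivial -/
theorem fpf [Finite V] (T : TT p K V W W' G A B h) {a : A} {w : W} (hw : w ≠ 0) (ha : RA T a w = w) : a = 1 := by
  have h1 := unip (p := p) T.rkW (det_one T a) hw ha (charP_of T)
  rw [← map_pow] at h1
  have h2 : a ^ p = 1 := RA_inj T h1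
  have h3 : orderOf a ∣ p := orderOf_dvd_of_pow_eq_one h2
  rcases (Nat.dvd_prime hp.out).1 h3 with h4 | h4
  · exact orderOf_eq_one_iff.1 h4
  · exfalso
    apply T.cop
    have h5 : orderOf a ∣ Nat.card A := orderOf_dvd_natCard a
    rw [h4] at h5
    exact h5.trans (Subgroup.card_dvd_of_le T.leA)

/-- proportional first factors of equal pure tensors -/
theorem exists_prop {L C : Set (Module.End K V)} (D : Dec L C W W') {w₁ w₂ : W} {w'₁ w'₂ : W'} (hw₁ : w₁ ≠ 0)
    (hw'₁ : w'₁ ≠ 0) (h : D.φ (w₁ ⊗ₜ w'₁) = D.φ (w₂ ⊗ₜ w'₂)) : ∃ c : Kˣ, w₁ = (c : K) • w₂ := by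
  obtain ⟨q, hq⟩ := exists_dual (K := K) hw'₁
  have h2 := D.φ.injective h
  have h3 := congrArg (TensorProduct.lift ((LinearMap.lsmul K W).flip.compl₂ q) : W ⊗[K] W' →ₗ[K] W) h2
  have h4 : w₁ = q w'₂ • w₂ := by simpa [hq] using h3
  have h5 : q w'₂ ≠ 0 := by
    intro h0
    rw [h0, zero_smul] at h4
    exact hw₁ h4
  exact ⟨Units.mk0 _ h5, h4⟩

theorem RA_ne (T : TT p K V W W' G A B h) (a : A) {w : W} (hw : w ≠ 0) : RA T a w ≠ 0 := by
  intro h0
  apply hw
  have h1 : RA T a⁻¹ (RA T a w) = w := by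
    have h2 : (RA T a⁻¹ * RA T a) w = w := by rw [← map_mul, inv_mul_cancel, map_one]; rfl
    exact h2
  rw [← h1, h0, map_zero]

/-- **the lower bound for the orbit length** -/
theorem tt_low' [Finite V] [Finite K] (T : TT p K V W W' G A B h) {m : ℕ} (hm : m * h = Nat.card G) :
    Nat.card A * Nat.card B ≤ m * (Nat.card K - 1) := by
  classical
  have := T.D.neL
  have := T.D.neR
  obtain ⟨w, hw⟩ := exists_ne (0 : W)
  obtain ⟨w', hw'⟩ := exists_ne (0 : W')
  have hv := T.D.ne_zero hw hw'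
  set v := T.D.φ (w ⊗ₜ w') with hvd
  have : Fintype A := Fintype.ofFinite A
  have : Fintype B := Fintype.ofFinite B
  have : Fintype Kˣ := Fintype.ofFinite Kˣ
  let F : A × B → V := fun x => (x.1 : V ≃ₗ[ZMod p] V) ((x.2 : V ≃ₗ[ZMod p] V) v)
  have hF : ∀ x : A × B, F x = T.D.φ (RA T x.1 w ⊗ₜ RA T.symm x.2 w') := by
    intro x
    change (x.1 : V ≃ₗ[ZMod p] V) ((x.2 : V ≃ₗ[ZMod p] V) (T.D.φ (w ⊗ₜ w'))) = _
    rw [RB_phi, RA_phi]
  have hq : Fintype.card Kˣ = Nat.card K - 1 := by rw [← Nat.card_eq_fintype_card, Nat.card_units]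
  have h1 : (Finset.univ : Finset (A × B)).card ≤ (Nat.card K - 1) * (Finset.univ.image F).card := by
    refine Finset.card_le_mul_card_image _ _ fun y hy => ?_
    obtain ⟨x0, -, rfl⟩ := Finset.mem_image.1 hy
    have hex : ∀ x : A × B, F x = F x0 → ∃ c : Kˣ, RA T x.1 w = (c : K) • RA T x0.1 w := by
      intro x hx
      rw [hF, hF] at hx
      exact exists_prop T.D (RA_ne T _ hw) (RA_ne T.symm _ hw') hx
    rw [← hq, ← Finset.card_univ]
    refine Finset.card_le_card_of_injOn (fun x => if hx : F x = F x0 then (hex x hx).choose else 1)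
      (fun _ _ => Finset.mem_univ _) ?_
    intro x hx x' hx' he
    have hx1 : F x = F x0 := (Finset.mem_filter.1 hx).2
    have hx1' : F x' = F x0 := (Finset.mem_filter.1 hx').2
    dsimp only at he
    rw [dif_pos hx1, dif_pos hx1'] at he
    have e1 := (hex x hx1).choose_spec
    have e2 := (hex x' hx1').choose_spec
    rw [he, ← e2] at e1
    have h2 : x.1 = x'.1 := by
      have h3 : RA T (x'.1⁻¹ * x.1) w = w := by
        rw [map_mul]
        change RA T x'.1⁻¹ (RA T x.1 w) = w
        rw [e1]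
        have h4 : (RA T x'.1⁻¹ * RA T x'.1) w = w := by rw [← map_mul, inv_mul_cancel, map_one]; rfl
        exact h4
      have h4 := fpf T hw h3
      exact (inv_mul_eq_one.1 h4).symm
    have h3 : x.2 = x'.2 := by
      have h4 : F x = F x' := hx1.trans hx1'.symm
      rw [hF, hF, h2] at h4
      have h5 := T.D.inj_right (RA_ne T _ hw) h4
      have h6 : RA T.symm (x'.2⁻¹ * x.2) w' = w' := by
        rw [map_mul]
        change RA T.symm x'.2⁻¹ (RA T.symm x.2 w') = w'
        rw [h5]
        have h4 : (RA T.symm x'.2⁻¹ * RA T.symm x'.2) w' = w' := by rw [← map_mul, inv_mul_cancel, map_one]; rfl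
        exact h4
      have h7 := fpf T.symm hw' h6
      exact (inv_mul_eq_one.1 h7).symm
    exact Prod.ext h2 h3
  have h2 : (Finset.univ.image F).card ≤ m := by
    have h0 : 0 < h := by have := T.two_le; omega
    rw [← orbit_card T.half h0 hm hv]
    rw [← Set.ncard_coe_finset]
    refine Set.ncard_le_ncard ?_ (Set.toFinite _)
    intro y hy
    obtain ⟨x, -, rfl⟩ := Finset.mem_image.1 (Finset.mem_coe.1 hy)
    exact ⟨⟨(x.1 : V ≃ₗ[ZMod p] V) * x.2, G.mul_mem (T.leA x.1.2) (T.leB x.2.2)⟩, rfl⟩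
  rw [Finset.card_univ, Fintype.card_prod, ← Nat.card_eq_fintype_card, ← Nat.card_eq_fintype_card] at h1
  calc Nat.card A * Nat.card B ≤ (Nat.card K - 1) * (Finset.univ.image F).card := h1
    _ ≤ (Nat.card K - 1) * m := Nat.mul_le_mul_left _ h2
    _ = m * (Nat.card K - 1) := mul_comm _ _

theorem tt_low [Finite V] [Finite K] (T : TT p K V W W' G A B h) (hA : Nat.card A = 120) (hB : Nat.card B = 120) {m : ℕ}
    (hm : m * h = Nat.card G) : 14400 ≤ m * (Nat.card K - 1) := by
  have := tt_low' T hm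
  rw [hA, hB] at this
  exact this

end Cfsg.Agent.H926.HT
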