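import Cfsg.Agent.H614.AMod.Bc
import Cfsg.Agent.H825.SpinCov

/-!
# Lifts of disjoint 3-cycles to a central extension of `Alt α` by a group of order at most two, and their weights

* `y3 D e` : the lift of order 3 of the 3-cycle `(e 0 e 1 e 2)`;
* `move` : the signed permutations of disjoint 3-cycles;
* `occ_of_card` : the weights that occur form a union of orbits of signed permutations;
* `disj_of_small` : in small dimension disjoint 3-cycles act independently.
-/

set_option autoImplicit false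
set_option linter.unusedSectionVars false

namespace Cfsg.Agent.H926.HT

open Equiv Equiv.Perm Cfsg.Agent.H614.AMod
open Cfsg.Agent.H825.Spin (Dc inv_cube)

section perm

variable {α : Type*} [Fintype α] [DecidableEq α]

/-- the 3-cycle of an embedding -/
def T3 (e : Fin 3 ↪ α) : Perm α := swap (e 0) (e 1) * swap (e 1) (e 2)

theorem T3_sign (e : Fin 3 ↪ α) : Perm.sign (T3 e) = 1 := by
  rw [T3, map_mul, sign_swap (e.injective.ne (by decide)), sign_swap (e.injective.ne (by decide))]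
  decide

theorem T3_conj (g : Perm α) (e e' : Fin 3 ↪ α) (h : ∀ i, g (e i) = e' i) : g * T3 e * g⁻¹ = T3 e' := by
  have h1 : g * T3 e * g⁻¹ = (g * swap (e 0) (e 1) * g⁻¹) * (g * swap (e 1) (e 2) * g⁻¹) := by rw [T3]; group
  rw [h1, ← Equiv.swap_apply_apply, ← Equiv.swap_apply_apply, h, h, h]
  rfl

theorem T3_cube (e : Fin 3 ↪ α) : T3 e * T3 e * T3 e = 1 := by
  have h01 : e 0 ≠ e 1 := e.injective.ne (by decide)
  have h02 : e 0 ≠ e 2 := e.injective.ne (by decide)
  have h12 : e 1 ≠ e 2 := e.injective.ne (by decide)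
  apply Equiv.ext
  intro x
  simp only [T3, Perm.mul_apply, Perm.one_apply]
  by_cases h0 : x = e 0
  · subst h0
    rw [swap_apply_of_ne_of_ne h01 h02, swap_apply_left, swap_apply_left, swap_apply_of_ne_of_ne h02.symm h12.symm,
      swap_apply_right, swap_apply_right]
  by_cases h1 : x = e 1
  · subst h1
    rw [swap_apply_left, swap_apply_of_ne_of_ne h02.symm h12.symm, swap_apply_right, swap_apply_right,
      swap_apply_of_ne_of_ne h01 h02, swap_apply_left]
  by_cases h2 : x = e 2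
  · subst h2
    rw [swap_apply_right, swap_apply_right, swap_apply_of_ne_of_ne h01 h02, swap_apply_left, swap_apply_left,
      swap_apply_of_ne_of_ne h02.symm h12.symm]
  · rw [swap_apply_of_ne_of_ne h1 h2, swap_apply_of_ne_of_ne h0 h1, swap_apply_of_ne_of_ne h1 h2,
      swap_apply_of_ne_of_ne h0 h1, swap_apply_of_ne_of_ne h1 h2, swap_apply_of_ne_of_ne h0 h1]

theorem T3_rev (e e' : Fin 3 ↪ α) (h : ∀ i, e' i = e (Fin.rev i)) : T3 e' = (T3 e)⁻¹ := by
  rw [T3, T3, mul_inv_rev, swap_inv, swap_inv, h, h, h]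
  have e0 : Fin.rev (0 : Fin 3) = 2 := by decide
  have e1 : Fin.rev (1 : Fin 3) = 1 := by decide
  have e2 : Fin.rev (2 : Fin 3) = 0 := by decide
  rw [e0, e1, e2, swap_comm (e 2) (e 1), swap_comm (e 1) (e 0)]

theorem T3_comm (e e' : Fin 3 ↪ α) (h : ∀ i j, e i ≠ e' j) : T3 e * T3 e' = T3 e' * T3 e := by
  have h1 : T3 e * T3 e' * (T3 e)⁻¹ = T3 e' := by
    apply T3_conj
    intro i
    rw [T3, Perm.mul_apply, swap_apply_of_ne_of_ne (h 1 i).symm (h 2 i).symm, swap_apply_of_ne_of_ne (h 0 i).symm (h 1 i).symm]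
  rw [← h1, inv_mul_cancel_right, h1]

theorem exists_even {β : Type*} [Fintype β] (hk : Fintype.card β + 2 ≤ Fintype.card α) (f f' : β ↪ α) :
    ∃ g : Perm α, Perm.sign g = 1 ∧ ∀ i, g (f i) = f' i := by
  classical
  obtain ⟨g, hg⟩ := exists_move hk ((Fintype.equivFin β).symm.toEmbedding.trans f)
    ((Fintype.equivFin β).symm.toEmbedding.trans f')
  refine ⟨g, mem_alternatingGroup.1 g.2, fun i => ?_⟩
  have := hg (Fintype.equivFin β i)
  simpa using this

end perm

section lift

variable {P : Type*} [Group P] {α : Type*} [Fintype α] [DecidableEq α] {π : P →* Perm α} {z : P}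

/-- the lift of order 3 of a 3-cycle -/
noncomputable def y3 (D : Dc π z) (e : Fin 3 ↪ α) : P := (D.exists_lift (T3_cube e) (T3_sign e)).choose

theorem y3_map (D : Dc π z) (e : Fin 3 ↪ α) : π (y3 D e) = T3 e :=
  (D.exists_lift (T3_cube e) (T3_sign e)).choose_spec.1

theorem y3_cube (D : Dc π z) (e : Fin 3 ↪ α) : y3 D e * y3 D e * y3 D e = 1 :=
  (D.exists_lift (T3_cube e) (T3_sign e)).choose_spec.2

theorem y3_pow (D : Dc π z) (e : Fin 3 ↪ α) : y3 D e ^ 3 = 1 := by
  rw [pow_succ, sq]; exact y3_cube D e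

theorem y3_conj (D : Dc π z) (e e' : Fin 3 ↪ α) (g : P) (h : ∀ i, π g (e i) = e' i) :
    g * y3 D e * g⁻¹ = y3 D e' :=
  D.conj g (y3_cube D e) (y3_cube D e') (by rw [y3_map, y3_map]; exact T3_conj _ e e' h)

theorem y3_conj_inv (D : Dc π z) (e e' : Fin 3 ↪ α) (g : P) (h : ∀ i, π g (e i) = e' (Fin.rev i)) :
    g * y3 D e * g⁻¹ = (y3 D e')⁻¹ := by
  let r : Fin 3 ↪ α := Fin.revPerm.toEmbedding.trans e'
  refine D.conj g (y3_cube D e) (inv_cube (y3_cube D e')) ?_
  rw [map_inv, y3_map, y3_map, ← T3_rev e' r (fun i => rfl)]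
  exact T3_conj _ e r h

theorem y3_comm (D : Dc π z) (e e' : Fin 3 ↪ α) (h : ∀ i j, e i ≠ e' j) : y3 D e * y3 D e' = y3 D e' * y3 D e :=
  D.commute (y3_cube D e') (by rw [y3_map, y3_map]; exact T3_comm e e' h)

/-- the `i`-th block -/
def blk {k : ℕ} (p : Fin k × Fin 3 ↪ α) (i : Fin k) : Fin 3 ↪ α where
  toFun a := p (i, a)
  inj' := fun a b h => (Prod.ext_iff.1 (p.injective h)).2

@[simp] theorem blk_apply {k : ℕ} (p : Fin k × Fin 3 ↪ α) (i : Fin k) (a : Fin 3) : blk p i a = p (i, a) := rfl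

/-- the signed permutations of the blocks -/
theorem move (D : Dc π z) {k : ℕ} (hk : 3 * k + 2 ≤ Fintype.card α) (p : Fin k × Fin 3 ↪ α) (σ : Perm (Fin k))
    (s : Fin k → Bool) : ∃ g : P, ∀ i, g * y3 D (blk p i) * g⁻¹ =
      if s i then (y3 D (blk p (σ i)))⁻¹ else y3 D (blk p (σ i)) := by
  let f : Fin k × Fin 3 ↪ α :=
    { toFun := fun x => p (σ x.1, if s x.1 then Fin.rev x.2 else x.2)
      inj' := by
        rintro ⟨i, a⟩ ⟨j, b⟩ h
        have h1 := p.injective h
        rw [Prod.mk.injEq] at h1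
        obtain ⟨h2, h3⟩ := h1
        have h4 : i = j := σ.injective h2
        subst h4
        by_cases hs : s i
        · simp only [hs, if_true] at h3
          rw [Fin.rev_injective h3]
        · simp only [hs] at h3
          rw [Prod.mk.injEq]
          exact ⟨rfl, h3⟩ }
  obtain ⟨g0, hg0, hg⟩ := exists_even (by simp; omega) p f
  obtain ⟨g, rfl⟩ := D.surj g0 hg0
  refine ⟨g, fun i => ?_⟩
  by_cases hs : s i
  · rw [if_pos hs]
    apply y3_conj_inv
    intro a
    rw [blk_apply, hg]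
    change p (σ i, if s i then Fin.rev a else a) = _
    rw [if_pos hs]; rfl
  · rw [if_neg hs]
    apply y3_conj
    intro a
    rw [blk_apply, hg]
    change p (σ i, if s i then Fin.rev a else a) = _
    rw [if_neg hs]; rfl

theorem y3_blk_comm (D : Dc π z) {k : ℕ} (p : Fin k × Fin 3 ↪ α) (i j : Fin k) :
    y3 D (blk p i) * y3 D (blk p j) = y3 D (blk p j) * y3 D (blk p i) := by
  by_cases h : i = j
  · rw [h]
  · apply y3_comm
    intro a b hab
    exact h (Prod.ext_iff.1 (p.injective hab)).1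

end lift

/-! ### Weights -/

section num

theorem le_choose {k j : ℕ} (h1 : 1 ≤ j) (h2 : j < k) : k ≤ Nat.choose k j := by
  induction k generalizing j with
  | zero => omega
  | succ k ih =>
    obtain ⟨i, rfl⟩ : ∃ i, j = i + 1 := ⟨j - 1, by omega⟩
    rw [Nat.choose_succ_succ']
    rcases Nat.eq_zero_or_pos i with rfl | hi
    · rw [Nat.choose_zero_right, Nat.choose_one_right]; omega
    · have h3 := ih (j := i) hi (by omega)
      have h4 : 0 < Nat.choose k (i + 1) := Nat.choose_pos (by omega)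
      omega

theorem num_two {k j : ℕ} (hk : 6 ≤ k) (h1 : 2 ≤ j) (h2 : j ≤ k) : 6 * k + 8 ≤ Nat.choose k j * 2 ^ j := by
  rcases h2.eq_or_lt with rfl | h3
  · rw [Nat.choose_self, one_mul]
    clear h1
    induction j, hk using Nat.le_induction with
    | base => norm_num
    | succ j hj ih =>
      have := ih le_rfl
      rw [pow_succ]; omega
  · rcases h1.eq_or_lt with rfl | h4
    · have h5 := Nat.triangle_succ (k - 1)
      have h6 : k - 1 + 1 = k := by omega
      have h7 : Nat.choose k 2 = k * (k - 1) / 2 := Nat.choose_two_right k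
      have h8 : Nat.choose k 2 * 2 = k * (k - 1) := by
        rw [h7]
        exact Nat.div_mul_cancel (by
          have := Nat.even_mul_pred_self k
          exact this.two_dvd)
      have h9 : k * 5 ≤ k * (k - 1) := Nat.mul_le_mul_left k (by omega)
      calc 6 * k + 8 ≤ k * 5 * 2 := by omega
        _ ≤ k * (k - 1) * 2 := Nat.mul_le_mul_right 2 h9
        _ = Nat.choose k 2 * 2 ^ 2 := by rw [← h8]; ring
    · have h5 := le_choose (by omega : 1 ≤ j) h3
      have h6 : 2 ^ 3 ≤ 2 ^ j := Nat.pow_le_pow_right (by norm_num) h4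
      calc 6 * k + 8 ≤ k * 2 ^ 3 := by omega
        _ ≤ Nat.choose k j * 2 ^ j := Nat.mul_le_mul h5 h6

theorem num_one {k j : ℕ} (hk : 6 ≤ k) (h1 : 1 ≤ j) (h2 : j ≤ k) : 2 * k ≤ Nat.choose k j * 2 ^ j := by
  rcases h1.eq_or_lt with rfl | h3
  · rw [Nat.choose_one_right]; omega
  · have := num_two hk h3 h2; omega

/-- the functions with `j` non-zero values -/
theorem card_supp (k j : ℕ) : Nat.choose k j * 2 ^ j ≤
    Fintype.card {a : Fin k → ZMod 3 // (Finset.univ.filter fun i => a i ≠ 0).card = j} := by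
  classical
  let B : Finset (Fin k) → Finset (Fin k → ZMod 3) := fun J =>
    Fintype.piFinset fun i => if i ∈ J then ({1, 2} : Finset (ZMod 3)) else {0}
  have hB : ∀ J a, a ∈ B J → ∀ i, a i ≠ 0 ↔ i ∈ J := by
    intro J a ha i
    have h1 := Fintype.mem_piFinset.1 ha i
    by_cases hi : i ∈ J
    · rw [if_pos hi] at h1
      simp only [Finset.mem_insert, Finset.mem_singleton] at h1
      constructor
      · intro _; exact hi
      · intro _
        rcases h1 with h1 | h1 <;> rw [h1] <;> decide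
    · rw [if_neg hi] at h1
      rw [Finset.mem_singleton] at h1
      constructor
      · intro h; exact absurd h1 h
      · intro h; exact absurd h hi
  have hcard : ∀ J, (B J).card = 2 ^ J.card := by
    intro J
    rw [Fintype.card_piFinset]
    have : ∀ i, (if i ∈ J then ({1, 2} : Finset (ZMod 3)) else {0}).card = if i ∈ J then 2 else 1 := by
      intro i
      by_cases hi : i ∈ J
      · rw [if_pos hi, if_pos hi]; decide
      · rw [if_neg hi, if_neg hi]; decide
    rw [Finset.prod_congr rfl fun i _ => this i, Finset.prod_ite_mem, Finset.univ_inter, Finset.prod_const]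
  rw [Fintype.card_subtype]
  have h1 : (Finset.powersetCard j (Finset.univ : Finset (Fin k))).biUnion B ⊆
      Finset.univ.filter fun a : Fin k → ZMod 3 => (Finset.univ.filter fun i => a i ≠ 0).card = j := by
    intro a ha
    obtain ⟨J, hJ, haJ⟩ := Finset.mem_biUnion.1 ha
    refine Finset.mem_filter.2 ⟨Finset.mem_univ _, ?_⟩
    have h2 : (Finset.univ.filter fun i => a i ≠ 0) = J := by
      ext i
      rw [Finset.mem_filter, hB J a haJ i]
      simp
    rw [h2]
    exact (Finset.mem_powersetCard.1 hJ).2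
  refine le_trans (le_of_eq ?_) (Finset.card_le_card h1)
  rw [Finset.card_biUnion, Finset.sum_congr rfl fun J hJ => by rw [hcard, (Finset.mem_powersetCard.1 hJ).2],
    Finset.sum_const, Finset.card_powersetCard, Finset.card_univ, Fintype.card_fin, smul_eq_mul]
  intro J _ J' _ hne
  rw [Function.onFun, Finset.disjoint_left]
  intro a ha ha'
  apply hne
  ext i
  rw [← hB J a ha i, hB J' a ha' i]

end num

section wt

variable {A : Type*} [Field A]

/-- a root of `X ^ 2 + X + 1` -/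
def IsOm (w : A) : Prop := w ^ 2 + w + 1 = 0

theorem IsOm.cube {w : A} (h : IsOm w) : w ^ 3 = 1 := by
  have : w ^ 3 - 1 = (w - 1) * (w ^ 2 + w + 1) := by ring
  rw [h, mul_zero] at this
  exact sub_eq_zero.1 this

theorem IsOm.ne_one {w : A} (h : IsOm w) (h3 : (3 : A) ≠ 0) : w ≠ 1 := by
  rintro rfl
  apply h3
  have : (3 : A) = 1 ^ 2 + 1 + 1 := by norm_num
  rw [this, h]

/-- the three cube roots of unity -/
def wt (w : A) (a : ZMod 3) : A := w ^ a.val

theorem wt_zero (w : A) : wt w 0 = 1 := by simp [wt]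

theorem wt_neg {w : A} (h : IsOm w) (a : ZMod 3) : wt w (-a) * wt w a = 1 := by
  have h3 := h.cube
  have : ∀ a : ZMod 3, (-a).val + a.val = 0 ∨ (-a).val + a.val = 3 := by decide
  rw [wt, wt, ← pow_add]
  rcases this a with h1 | h1
  · rw [h1, pow_zero]
  · rw [h1, h3]

theorem wt_inj {w : A} (h : IsOm w) (h3 : (3 : A) ≠ 0) : Function.Injective (wt w) := by
  have h1 := h.ne_one h3
  have hc := h.cube
  have h0 : w ≠ 0 := by rintro rfl; simp at hc
  have h2 : w ^ 2 ≠ 1 := by
    intro h2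
    apply h1
    calc w = w ^ 3 * w := by rw [hc, one_mul]
      _ = (w ^ 2) ^ 2 := by ring
      _ = 1 := by rw [h2, one_pow]
  have h4 : w ^ 2 ≠ w := by
    intro h4
    apply h1
    have : w * w = w * 1 := by rw [← sq, h4, mul_one]
    exact mul_left_cancel₀ h0 this
  have key : ∀ a b : ZMod 3, a ≠ b → wt w a ≠ wt w b := by
    have hv : ∀ a : ZMod 3, a.val = 0 ∨ a.val = 1 ∨ a.val = 2 := by decide
    intro a b hab he
    have hne : a.val ≠ b.val := fun h => hab (ZMod.val_injective 3 h)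
    rw [wt, wt] at he
    rcases hv a with h5 | h5 | h5 <;> rcases hv b with h6 | h6 | h6 <;> rw [h5, h6] at he hne <;>
      simp only [pow_zero, pow_one] at he
    · exact hne rfl
    · exact h1 he.symm
    · exact h2 he.symm
    · exact h1 he
    · exact hne rfl
    · exact h4 he.symm
    · exact h2 he
    · exact h4 he
    · exact hne rfl
  intro a b hab
  by_contra hne
  exact key a b hne hab

theorem exists_wt {w : A} (h : IsOm w) {c : A} (hc : c ^ 3 = 1) : ∃ a : ZMod 3, c = wt w a := by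
  have h1 : (c - 1) * ((c - w) * (c - w ^ 2)) = 0 := by
    have h2 : (c - 1) * ((c - w) * (c - w ^ 2)) = (c ^ 3 - 1) - (w ^ 2 + w + 1) * (c ^ 2 - c) + (w ^ 3 - 1) * (c - 1) := by
      ring
    rw [h2, hc, h, h.cube]; ring
  rcases mul_eq_zero.1 h1 with h2 | h2
  · exact ⟨0, by rw [wt_zero]; exact sub_eq_zero.1 h2⟩
  · rcases mul_eq_zero.1 h2 with h3 | h3
    · exact ⟨1, by rw [wt, show (1 : ZMod 3).val = 1 from rfl, pow_one]; exact sub_eq_zero.1 h3⟩
    · exact ⟨2, by rw [wt, show (2 : ZMod 3).val = 2 from rfl]; exact sub_eq_zero.1 h3⟩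

theorem exists_om [IsAlgClosed A] : ∃ w : A, IsOm w := by
  obtain ⟨w, hw⟩ := IsAlgClosed.exists_root (Polynomial.X ^ 2 + Polynomial.X + 1 : Polynomial A) (by
    have : (Polynomial.X ^ 2 + Polynomial.X + 1 : Polynomial A).degree = 2 := by compute_degree!
    rw [this]; decide)
  refine ⟨w, ?_⟩
  simpa [Polynomial.IsRoot, IsOm] using hw

variable {P : Type*} [Group P] {α : Type*} [Fintype α] [DecidableEq α] {π : P →* Perm α} {z : P}
  {W : Type*} [AddCommGroup W] [Module A W] (ρ : Representation A P W)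

/-- the weight occurs -/
def Occ (D : Dc π z) (w : A) {k : ℕ} (p : Fin k × Fin 3 ↪ α) (a : Fin k → ZMod 3) : Prop :=
  ∃ v : W, v ≠ 0 ∧ ∀ i, ρ (y3 D (blk p i)) v = wt w (a i) • v

theorem occ_move {ρ : Representation A P W} (D : Dc π z) {w : A} (hw : IsOm w) {k : ℕ} (hk : 3 * k + 2 ≤ Fintype.card α)
    {p : Fin k × Fin 3 ↪ α} {a a' : Fin k → ZMod 3} (σ : Perm (Fin k)) (s : Fin k → Bool)
    (h : ∀ i, a' (σ i) = if s i then -a i else a i) (ho : Occ ρ D w p a) : Occ ρ D w p a' := by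
  obtain ⟨g, hg⟩ := move D hk p σ s
  obtain ⟨v, hv, hva⟩ := ho
  refine ⟨ρ g v, fun h0 => hv ?_, ?_⟩
  · have := congrArg (ρ g⁻¹) h0
    rwa [rho_inv_self, map_zero] at this
  · intro j
    obtain ⟨i, rfl⟩ := σ.surjective j
    have h1 : ρ (g * y3 D (blk p i) * g⁻¹) (ρ g v) = wt w (a i) • ρ g v := by
      rw [rho_mul, rho_mul, rho_inv_self, hva, map_smul]
    rw [hg i] at h1
    by_cases hs : s i
    · rw [if_pos hs] at h1
      rw [h i, if_pos hs]
      have h2 := congrArg (fun u => wt w (-a i) • ρ (y3 D (blk p (σ i))) u) h1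
      simp only [map_smul, smul_smul] at h2
      rw [wt_neg hw, one_smul, rho_self_inv] at h2
      exact h2.symm
    · rw [if_neg hs] at h1
      rw [h i, if_neg hs]
      exact h1

theorem occ_of_card {ρ : Representation A P W} (D : Dc π z) {w : A} (hw : IsOm w) {k : ℕ}
    (hk : 3 * k + 2 ≤ Fintype.card α) {p : Fin k × Fin 3 ↪ α} {a a' : Fin k → ZMod 3}
    (h : (Finset.univ.filter fun i => a i ≠ 0).card = (Finset.univ.filter fun i => a' i ≠ 0).card)
    (ho : Occ ρ D w p a) : Occ ρ D w p a' := by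
  classical
  have hc : Fintype.card {i // a i ≠ 0} = Fintype.card {i // a' i ≠ 0} := by
    rw [Fintype.card_subtype, Fintype.card_subtype, h]
  let e := Fintype.equivOfCardEq hc
  let σ : Perm (Fin k) := e.extendSubtype
  have hσ : ∀ i, a i ≠ 0 ↔ a' (σ i) ≠ 0 := by
    intro i
    constructor
    · intro hi
      exact e.extendSubtype_mem i hi
    · intro hi
      by_contra hi'
      exact e.extendSubtype_not_mem i (fun h => h hi') hi
  refine occ_move D hw hk σ (fun i => decide (a' (σ i) ≠ a i)) (fun i => ?_) ho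
  have key : ∀ x y : ZMod 3, (x ≠ 0 ↔ y ≠ 0) → y = if decide (y ≠ x) then -x else x := by decide
  exact key _ _ (hσ i)

/-- many weights -/
theorem card_le_of_occ [FiniteDimensional A W] {ρ : Representation A P W} (D : Dc π z) {w : A} (hw : IsOm w)
    (h3 : (3 : A) ≠ 0) {k : ℕ} (hk : 3 * k + 2 ≤ Fintype.card α) {p : Fin k × Fin 3 ↪ α} {a : Fin k → ZMod 3}
    (ho : Occ ρ D w p a) :
    Nat.choose k (Finset.univ.filter fun i => a i ≠ 0).card * 2 ^ (Finset.univ.filter fun i => a i ≠ 0).card ≤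
      Module.finrank A W := by
  classical
  set j := (Finset.univ.filter fun i => a i ≠ 0).card with hj
  refine (card_supp k j).trans ?_
  have hocc : ∀ b : {b : Fin k → ZMod 3 // (Finset.univ.filter fun i => b i ≠ 0).card = j}, Occ ρ D w p b.1 :=
    fun b => occ_of_card D hw hk (by rw [b.2]) ho
  choose v hv hva using hocc
  have := card_le_of_weights (fun i : Fin k => ρ (y3 D (blk p i)))
    (fun i l => rho_comm ρ (y3_blk_comm D p i l)) (⊤ : Submodule A W)
    (fun (b : {b : Fin k → ZMod 3 // (Finset.univ.filter fun i => b i ≠ 0).card = j}) i => wt w (b.1 i))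
    (fun b b' hb => Subtype.ext (funext fun i => wt_inj hw h3 (congrFun hb i))) v hv (fun _ => trivial)
    (fun b i => hva b i)
  rwa [finrank_top] at this

/-- common eigenvectors in invariant subspaces -/
theorem exists_occ [FiniteDimensional A W] [IsAlgClosed A] {ρ : Representation A P W} (D : Dc π z) {w : A} (hw : IsOm w)
    {k : ℕ} {p : Fin k × Fin 3 ↪ α} {W0 : Submodule A W} (h0 : W0 ≠ ⊥)
    (hinv : ∀ i, Inv ρ W0 (y3 D (blk p i))) :
    ∃ a : Fin k → ZMod 3, ∃ v ∈ W0, v ≠ 0 ∧ ∀ i, ρ (y3 D (blk p i)) v = wt w (a i) • v := by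
  classical
  have key : ∀ S : Finset (Fin k), ∃ W1 : Submodule A W, W1 ≤ W0 ∧ W1 ≠ ⊥ ∧ (∀ i, Inv ρ W1 (y3 D (blk p i))) ∧
      ∀ i ∈ S, ∃ c, W1 ≤ eg ρ (y3 D (blk p i)) c := by
    intro S
    induction S using Finset.induction_on with
    | empty => exact ⟨W0, le_rfl, h0, hinv, by simp⟩
    | insert i S hi ih =>
      obtain ⟨W1, h1, h2, h3, h4⟩ := ih
      obtain ⟨c, hc⟩ := exists_eig ρ (h3 i) h2
      refine ⟨W1 ⊓ eg ρ (y3 D (blk p i)) c, inf_le_left.trans h1, hc, fun l => (h3 l).inf ρ ?_, ?_⟩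
      · exact inv_eg ρ (y3_blk_comm D p i l) c
      · intro l hl
        rcases Finset.mem_insert.1 hl with rfl | hl
        · exact ⟨c, inf_le_right⟩
        · obtain ⟨d, hd⟩ := h4 l hl
          exact ⟨d, inf_le_left.trans hd⟩
  obtain ⟨W1, h1, h2, -, h4⟩ := key Finset.univ
  obtain ⟨v, hv, hv0⟩ := (Submodule.ne_bot_iff _).1 h2
  have h5 : ∀ i, ∃ a : ZMod 3, ρ (y3 D (blk p i)) v = wt w a • v := by
    intro i
    obtain ⟨c, hc⟩ := h4 i (Finset.mem_univ _)
    obtain ⟨a, rfl⟩ := exists_wt hw (eig_pow ρ (hc hv) hv0 (y3_pow D _))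
    exact ⟨a, hc hv⟩
  choose a ha using h5
  exact ⟨a, v, h1 hv, hv0, ha⟩

theorem ne_zero_of_U {ρ : Representation A P W} (D : Dc π z) {w : A} (h3 : (3 : A) ≠ 0) {e : Fin 3 ↪ α} {a : ZMod 3}
    {v : W} (hv : v ∈ U ρ (y3 D e)) (hv0 : v ≠ 0) (hva : ρ (y3 D e) v = wt w a • v) : a ≠ 0 := by
  rintro rfl
  rw [wt_zero, one_smul] at hva
  have h1 := U_inf_fix ρ (y3_pow D e) (by exact_mod_cast h3)
  have h2 : v ∈ (U ρ (y3 D e) ⊓ eg ρ (y3 D e) 1 : Submodule A W) := ⟨hv, (mem_eg_one ρ).2 hva⟩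
  rw [h1, Submodule.mem_bot] at h2
  exact hv0 h2

/-- **Disjoint 3-cycles act independently in small dimension.** -/
theorem disj_of_small [FiniteDimensional A W] [IsAlgClosed A] (ρ : Representation A P W) (D : Dc π z)
    (h3 : (3 : A) ≠ 0) {k : ℕ} (hk6 : 6 ≤ k) (hk : 3 * k + 2 ≤ Fintype.card α) (hn : Module.finrank A W < 6 * k + 8)
    (p : Fin k × Fin 3 ↪ α) {i j : Fin k} (hij : i ≠ j) : y3 D (blk p j) ∈ pst ρ (U ρ (y3 D (blk p i))) := by
  classical
  obtain ⟨w, hw⟩ := exists_om (A := A)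
  by_contra hcon
  rw [mem_pst] at hcon
  push Not at hcon
  obtain ⟨u, hu, hne⟩ := hcon
  set W0 : Submodule A W := U ρ (y3 D (blk p i)) ⊓ U ρ (y3 D (blk p j)) with hW0
  have h1 : ρ (y3 D (blk p j)) u - u ∈ W0 :=
    ⟨Submodule.sub_mem _ (inv_U ρ (y3_blk_comm D p i j) u hu) hu, sub_mem_U ρ _ u⟩
  have h2 : W0 ≠ ⊥ := by
    intro hb
    rw [hb, Submodule.mem_bot, sub_eq_zero] at h1
    exact hne h1
  obtain ⟨a, v, hv, hv0, hva⟩ := exists_occ (ρ := ρ) D hw (p := p) h2
    (fun l => (inv_U ρ (y3_blk_comm D p i l)).inf ρ (inv_U ρ (y3_blk_comm D p j l)))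
  have hai : a i ≠ 0 := ne_zero_of_U D (w := w) h3 hv.1 hv0 (hva i)
  have haj : a j ≠ 0 := ne_zero_of_U D (w := w) h3 hv.2 hv0 (hva j)
  have h4 := card_le_of_occ D hw h3 hk ⟨v, hv0, hva⟩
  have h5 : 2 ≤ (Finset.univ.filter fun i => a i ≠ 0).card := by
    rw [← Finset.card_pair hij]
    refine Finset.card_le_card fun l hl => ?_
    rcases Finset.mem_insert.1 hl with rfl | hl
    · simp [hai]
    · rw [Finset.mem_singleton.1 hl]; simp [haj]
  have h6 : (Finset.univ.filter fun i => a i ≠ 0).card ≤ k := by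
    refine (Finset.card_filter_le _ _).trans ?_
    simp
  have := num_two hk6 h5 h6
  omega

/-- the dimension is at least `2 k` -/
theorem le_finrank [FiniteDimensional A W] [IsAlgClosed A] (ρ : Representation A P W) (D : Dc π z)
    (h3 : (3 : A) ≠ 0) {k : ℕ} (hk6 : 6 ≤ k) (hk : 3 * k + 2 ≤ Fintype.card α)
    (p : Fin k × Fin 3 ↪ α) {i : Fin k} (hne : ρ (y3 D (blk p i)) ≠ 1) : 2 * k ≤ Module.finrank A W := by
  classical
  obtain ⟨w, hw⟩ := exists_om (A := A)
  have h2 : U ρ (y3 D (blk p i)) ≠ ⊥ := by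
    intro hb
    apply hne
    ext v
    have := sub_mem_U ρ (y3 D (blk p i)) v
    rw [hb, Submodule.mem_bot, sub_eq_zero] at this
    exact this
  obtain ⟨a, v, hv, hv0, hva⟩ := exists_occ (ρ := ρ) D hw (p := p) h2
    (fun l => inv_U ρ (y3_blk_comm D p i l))
  have hai : a i ≠ 0 := ne_zero_of_U D (w := w) h3 hv hv0 (hva i)
  have h4 := card_le_of_occ D hw h3 hk ⟨v, hv0, hva⟩
  have h5 : 1 ≤ (Finset.univ.filter fun i => a i ≠ 0).card := by
    rw [Nat.one_le_iff_ne_zero, Ne, Finset.card_eq_zero]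
    intro h
    have : i ∈ (Finset.univ.filter fun i => a i ≠ 0) := by simp [hai]
    rw [h] at this
    simp at this
  have h6 : (Finset.univ.filter fun i => a i ≠ 0).card ≤ k := by
    refine (Finset.card_filter_le _ _).trans ?_
    simp
  exact (num_one hk6 h5 h6).trans h4

end wt

end Cfsg.Agent.H926.HT
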