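import Cfsg.Agent.H926.HT.Tens

/-!
# S3540, section 4: eigenspaces of a product `a b` on a tensor product of two planes

* `eig_le` : the eigenspaces of `a b`, `a ^ 5 = b ^ 5 = 1`, `(a, b) ≠ (1, 1)`, have dimension at most two;
* `card_eig_le` : `a b` has at most `2 (|K| ^ 2 - 1)` eigenvectors.
-/

set_option autoImplicit false
set_option linter.unusedSectionVars false

universe u

namespace Cfsg.Agent.H926.HT

open Cfsg.Agent.H828.HT Cfsg.Agent.H138.HT Cfsg.Agent.Omega.NO1.Comp Module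
open scoped TensorProduct

section gen

variable {K : Type*} [Field K] {V : Type*} [AddCommGroup V] [Module K V]

/-- the dimensions of the eigenspaces -/
theorem sum_eig_le [Fintype K] [FiniteDimensional K V] (g : Module.End K V) :
    ∑ μ : K, finrank K (g.eigenspace μ) ≤ finrank K V := by
  classical
  have h1 := g.eigenspaces_iSupIndep.dfinsupp_lsum_injective
  have h2 := LinearMap.finrank_le_finrank_of_injective h1
  have h3 := finrank_directSum (R := K) (fun μ : K => g.eigenspace μ)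
  rw [← h3]
  exact h2

/-- the number of eigenvectors if all eigenspaces have dimension at most two -/
theorem card_eigvec_le [Finite K] [Finite V] (g : Module.End K V) (h2 : ∀ μ, finrank K (g.eigenspace μ) ≤ 2) :
    2 * Nat.card {v : V // v ≠ 0 ∧ ∃ μ : K, g v = μ • v} ≤ finrank K V * (Nat.card K ^ 2 - 1) := by
  classical
  have : Fintype K := Fintype.ofFinite K
  have : Fintype V := Fintype.ofFinite V
  set q := Nat.card K with hq
  have hq2 : 2 ≤ q := Finite.one_lt_card
  have h1 : Nat.card {v : V // v ≠ 0 ∧ ∃ μ : K, g v = μ • v} ≤ ∑ μ : K, (q ^ finrank K (g.eigenspace μ) - 1) := by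
    rw [Nat.card_eq_fintype_card, Fintype.card_subtype]
    have hsub : (Finset.univ.filter fun v : V => v ≠ 0 ∧ ∃ μ : K, g v = μ • v) ⊆
        Finset.univ.biUnion fun μ : K => (Finset.univ.filter fun v : V => v ∈ g.eigenspace μ).erase 0 := by
      intro v hv
      obtain ⟨-, hv0, μ, hμ⟩ := Finset.mem_filter.1 hv
      refine Finset.mem_biUnion.2 ⟨μ, Finset.mem_univ _, Finset.mem_erase.2 ⟨hv0, Finset.mem_filter.2 ⟨Finset.mem_univ _, ?_⟩⟩⟩
      exact Module.End.mem_eigenspace_iff.2 hμ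
    refine (Finset.card_le_card hsub).trans (Finset.card_biUnion_le.trans (Finset.sum_le_sum fun μ _ => ?_))
    rw [Finset.card_erase_of_mem (Finset.mem_filter.2 ⟨Finset.mem_univ _, Submodule.zero_mem _⟩)]
    refine Nat.sub_le_sub_right (le_of_eq ?_) 1
    rw [hq, ← Module.natCard_eq_pow_finrank (K := K) (V := g.eigenspace μ), Nat.card_eq_fintype_card,
      Fintype.card_subtype]
  have h3 : ∀ μ : K, 2 * (q ^ finrank K (g.eigenspace μ) - 1) ≤ finrank K (g.eigenspace μ) * (q ^ 2 - 1) := by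
    intro μ
    have h4 := h2 μ
    have h5 : finrank K (g.eigenspace μ) = 0 ∨ finrank K (g.eigenspace μ) = 1 ∨ finrank K (g.eigenspace μ) = 2 := by
      omega
    rcases h5 with h5 | h5 | h5 <;> rw [h5]
    · simp
    · rw [one_mul, pow_one]
      obtain ⟨r, hr⟩ : ∃ r, q = r + 2 := ⟨q - 2, by omega⟩
      rw [hr]
      have : (r + 2) ^ 2 - 1 = r ^ 2 + 4 * r + 3 := by
        have : (r + 2) ^ 2 = r ^ 2 + 4 * r + 3 + 1 := by ring
        omega
      rw [this]
      have : 0 ≤ r ^ 2 := Nat.zero_le _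
      omega
  calc 2 * Nat.card {v : V // v ≠ 0 ∧ ∃ μ : K, g v = μ • v}
      ≤ 2 * ∑ μ : K, (q ^ finrank K (g.eigenspace μ) - 1) := Nat.mul_le_mul_left 2 h1
    _ = ∑ μ : K, 2 * (q ^ finrank K (g.eigenspace μ) - 1) := Finset.mul_sum _ _ _
    _ ≤ ∑ μ : K, finrank K (g.eigenspace μ) * (q ^ 2 - 1) := Finset.sum_le_sum fun μ _ => h3 μ
    _ = (∑ μ : K, finrank K (g.eigenspace μ)) * (q ^ 2 - 1) := by rw [Finset.sum_mul]
    _ ≤ finrank K V * (q ^ 2 - 1) := Nat.mul_le_mul_right _ (sum_eig_le g)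

end gen

variable {p : ℕ} [hp : Fact p.Prime] {K : Type u} [Field K] {V : Type u} [AddCommGroup V] [Module (ZMod p) V]
    [Module K V] {W W' : Type u} [AddCommGroup W] [Module K W] [AddCommGroup W'] [Module K W']
    {G A B : Subgroup (V ≃ₗ[ZMod p] V)} {h : ℕ}

/-- the `K`-linear map `a b` -/
noncomputable def lab (T : TT p K V W W' G A B h) (a : A) (b : B) : Module.End K V := la T a * la T.symm b

@[simp] theorem lab_apply (T : TT p K V W W' G A B h) (a : A) (b : B) (v : V) :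
    lab T a b v = (a : V ≃ₗ[ZMod p] V) ((b : V ≃ₗ[ZMod p] V) v) := rfl

theorem lab_symm (T : TT p K V W W' G A B h) (a : A) (b : B) : lab T.symm b a = lab T a b := by
  ext v
  have h1 := LinearEquiv.congr_fun (T.comm a a.2 b b.2) v
  exact h1.symm

theorem finrank_eq_four (T : TT p K V W W' G A B h) : finrank K V = 4 := by
  have h1 : FiniteDimensional K W := Module.finite_of_finrank_pos (by rw [T.rkW]; omega)
  have h2 : FiniteDimensional K W' := Module.finite_of_finrank_pos (by rw [T.rkW']; omega)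
  rw [← T.D.φ.finrank_eq, finrank_tensorProduct, T.rkW, T.rkW']

/-- large eigenspaces -/
theorem one_of_eig [Finite V] (T : TT p K V W W' G A B h) {a : A} {b : B} (ha : a ^ 5 = 1) {μ : K}
    (h3 : 3 ≤ finrank K ((lab T a b).eigenspace μ)) : a = 1 := by
  have hfV : FiniteDimensional K V := Module.finite_of_finrank_pos (by rw [finrank_eq_four T]; omega)
  have key : ∀ w : W, ∃ c : K, RA T a w = c • w := by
    intro w
    by_cases hw : w = 0
    · exact ⟨0, by rw [hw, map_zero, smul_zero]⟩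
    let ψ : W' →ₗ[K] V := (T.D.φ : W ⊗[K] W' →ₗ[K] V) ∘ₗ TensorProduct.mk K W W' w
    have hψ : Function.Injective ψ := fun x y hxy => T.D.inj_right hw hxy
    have h4 : finrank K (LinearMap.range ψ) = 2 := by rw [LinearMap.finrank_range_of_inj hψ, T.rkW']
    have h5 : (LinearMap.range ψ ⊓ (lab T a b).eigenspace μ : Submodule K V) ≠ ⊥ := by
      intro hb
      have h6 := Submodule.finrank_sup_add_finrank_inf_eq (LinearMap.range ψ) ((lab T a b).eigenspace μ)
      rw [hb, finrank_bot, h4] at h6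
      have h7 := Submodule.finrank_le (LinearMap.range ψ ⊔ (lab T a b).eigenspace μ)
      rw [finrank_eq_four T] at h7
      omega
    obtain ⟨v, ⟨⟨w', rfl⟩, hv⟩, hv0⟩ := (Submodule.ne_bot_iff _).1 h5
    have hw' : w' ≠ 0 := by rintro rfl; exact hv0 (map_zero ψ)
    have h6 : lab T a b (ψ w') = μ • ψ w' := Module.End.mem_eigenspace_iff.1 hv
    rw [lab_apply] at h6
    change (a : V ≃ₗ[ZMod p] V) ((b : V ≃ₗ[ZMod p] V) (T.D.φ (w ⊗ₜ w'))) = μ • T.D.φ (w ⊗ₜ w') at h6
    rw [RB_phi, RA_phi, ← map_smul, ← TensorProduct.tmul_smul] at h6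
    obtain ⟨c, hc⟩ := exists_prop T.D (RA_ne T a hw) (RA_ne T.symm b hw') h6
    exact ⟨c, hc⟩
  obtain ⟨c, hc⟩ := LinearMap.exists_eq_smul_id_of_forall_notLinearIndependent (f := RA T a) (fun v => by
    obtain ⟨c, hc⟩ := key v
    rw [LinearIndependent.pair_iff]
    intro hcon
    have h4 := hcon (-c) 1 (by rw [hc, one_smul, neg_smul, neg_add_cancel])
    exact one_ne_zero h4.2)
  have hW := T.D.neL
  obtain ⟨w, hw⟩ := exists_ne (0 : W)
  have h5 : c ^ 5 = 1 := by
    have h6 : RA T (a ^ 5) w = c ^ 5 • w := by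
      rw [map_pow, hc, smul_pow, one_pow]; rfl
    rw [ha, map_one] at h6
    have h7 : (c ^ 5 - 1) • w = 0 := by rw [sub_smul, one_smul, ← h6]; simp
    exact sub_eq_zero.1 ((smul_eq_zero.1 h7).resolve_right hw)
  have h2 : c ^ 2 = 1 := by
    have h6 := det_one T a
    rw [hc, LinearMap.det_smul, T.rkW, map_one, mul_one] at h6
    exact h6
  have h1 : c = 1 := by
    calc c = c ^ 5 * ((c ^ 2) ^ 2)⁻¹ := by
          rw [h2]; simp
          calc c = c * (c ^ 2) ^ 2 := by rw [h2]; simp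
            _ = c ^ 5 := by ring
      _ = 1 := by rw [h5, h2]; simp
  apply RA_inj T
  rw [hc, h1, one_smul]

/-- **the eigenspaces of `a b`** -/
theorem eig_le [Finite V] (T : TT p K V W W' G A B h) {a : A} {b : B} (ha : a ^ 5 = 1) (hb : b ^ 5 = 1)
    (hab : ¬ (a = 1 ∧ b = 1)) (μ : K) : finrank K ((lab T a b).eigenspace μ) ≤ 2 := by
  by_contra hcon
  push Not at hcon
  refine hab ⟨one_of_eig T ha hcon, one_of_eig T.symm (b := a) hb (μ := μ) ?_⟩
  rw [lab_symm]
  exact hcon

/-- **the eigenvectors of `a b`** -/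
theorem card_eig_le [Finite K] [Finite V] (T : TT p K V W W' G A B h) {a : A} {b : B} (ha : a ^ 5 = 1) (hb : b ^ 5 = 1)
    (hab : ¬ (a = 1 ∧ b = 1)) :
    Nat.card {v : V // v ≠ 0 ∧ ∃ μ : K, (a : V ≃ₗ[ZMod p] V) ((b : V ≃ₗ[ZMod p] V) v) = μ • v} ≤
      2 * (Nat.card K ^ 2 - 1) := by
  have h1 := card_eigvec_le (lab T a b) (eig_le T ha hb hab)
  rw [finrank_eq_four T] at h1
  have h2 : Nat.card {v : V // v ≠ 0 ∧ ∃ μ : K, (a : V ≃ₗ[ZMod p] V) ((b : V ≃ₗ[ZMod p] V) v) = μ • v} =
      Nat.card {v : V // v ≠ 0 ∧ ∃ μ : K, lab T a b v = μ • v} := rfl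
  rw [h2]
  omega

end Cfsg.Agent.H926.HT
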